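import Cfsg.Agent.H832.KB.Elt
import Cfsg.Agent.S4646

/-!
# S4822, D7, D7', D9', D3': Sylow subgroups of rank 2; simple groups
-/

set_option autoImplicit false

open Cfsg Subgroup Cfsg.Agent.H508.KB

namespace Cfsg.Agent.H832.KB

universe u

variable {p : ℕ} [hp : Fact p.Prime] {M : Ideal AlgInt}

/-- D9': rank 2: `l(B₀(C(x)))` is at least the order of the action on `y` modulo `x` -/
theorem rank_of_rank_two {S : Type u} [Group S] [Finite S] (hM : IsPModular p M) (P : Sylow p S) (x y : S)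
    (hxy : Commute x y) (hP : (P : Subgroup S) = closure {x, y}) (hy : y ∉ zpowers x)
    (c : S) (hcx : Commute c x) (j : ℕ) (hc : c * y * c⁻¹ = y ^ j) :
    orderOf (j : ZMod p) ≤ blockRank p (principalBlock M ↥(centralizer ({x} : Set S))) := by
  let C := centralizer ({x} : Set S)
  have hxC : x ∈ C := mem_centralizer_singleton_iff.2 rfl
  have hyC : y ∈ C := mem_centralizer_singleton_iff.2 hxy.symm
  have hcC : c ∈ C := mem_centralizer_singleton_iff.2 hcx
  let x' : C := ⟨x, hxC⟩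
  let y' : C := ⟨y, hyC⟩
  let c' : C := ⟨c, hcC⟩
  have hZn : (zpowers x').Normal := by
    refine ⟨fun z hz g => ?_⟩
    obtain ⟨n, rfl⟩ := mem_zpowers_iff.1 hz
    have h1 : Commute g x' := Subtype.ext (mem_centralizer_singleton_iff.1 g.2)
    rw [(h1.zpow_right n).eq, mul_inv_cancel_right]
    exact hz
  have hPC : (P : Subgroup S) ≤ C := by
    rw [hP, closure_le]
    rintro z (rfl | rfl)
    · exact hxC
    · exact hyC
  let P' : Sylow p C := P.subtype hPC
  let φ : C →* C ⧸ zpowers x' := QuotientGroup.mk' (zpowers x')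
  have hφ : Function.Surjective φ := QuotientGroup.mk'_surjective _
  have hφx : φ x' = 1 := (QuotientGroup.eq_one_iff _).2 (mem_zpowers x')
  let R : Sylow p (C ⧸ zpowers x') := P'.mapSurjective hφ
  have hR : (R : Subgroup (C ⧸ zpowers x')) = (P' : Subgroup C).map φ := rfl
  have hle : ∀ q ∈ (R : Subgroup (C ⧸ zpowers x')), q ∈ zpowers (φ y') := by
    rw [hR]
    rintro _ ⟨g, hg, rfl⟩
    have h1 : (P : Subgroup S) ≤ ((zpowers (φ y')).comap φ).map C.subtype := by
      rw [hP, closure_le]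
      rintro z (rfl | rfl)
      · exact ⟨x', by
          show φ x' ∈ zpowers (φ y')
          rw [hφx]
          exact one_mem _, rfl⟩
      · exact ⟨y', mem_zpowers _, rfl⟩
    have h2 : (g : S) ∈ (P : Subgroup S) := hg
    obtain ⟨g', hg', he⟩ := h1 h2
    have h3 : g' = g := Subtype.ext he
    rw [← h3]
    exact hg'
  have hyP : y ∈ (P : Subgroup S) := by
    rw [hP]
    exact subset_closure (Or.inr rfl)
  have hyR : φ y' ∈ (R : Subgroup (C ⧸ zpowers x')) := ⟨y', hyP, rfl⟩
  have hcyc : IsCyclic (R : Subgroup (C ⧸ zpowers x')) := by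
    refine ⟨⟨⟨φ y', hyR⟩, fun q => ?_⟩⟩
    obtain ⟨n, hn⟩ := mem_zpowers_iff.1 (hle q.1 q.2)
    exact mem_zpowers_iff.2 ⟨n, Subtype.ext (by rw [← hn]; rfl)⟩
  have hy1 : φ y' ≠ 1 := by
    intro h
    have h1 : y' ∈ zpowers x' := (QuotientGroup.eq_one_iff _).1 h
    obtain ⟨n, hn⟩ := mem_zpowers_iff.1 h1
    apply hy
    refine mem_zpowers_iff.2 ⟨n, ?_⟩
    have := congrArg (fun z : C => (z : S)) hn
    exact this
  obtain ⟨m, hm⟩ := IsPGroup.iff_orderOf.1 R.2 ⟨φ y', hyR⟩
  rw [Subgroup.orderOf_mk] at hm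
  refine rank_of_quot hM φ hφ R hcyc (φ y') (φ c') hy1 m hm j ?_
  rw [← map_inv, ← map_mul, ← map_mul, ← map_pow]
  exact congrArg φ (Subtype.ext hc)

/-- D7' -/
theorem kB_of_rank_two' {S : Type u} [Group S] [Finite S] (hM : IsPModular p M) (P : Sylow p S) (x y : S)
    (hxy : Commute x y) (hP : (P : Subgroup S) = closure {x, y}) (hx : x ≠ 1) (hy : y ∉ zpowers x)
    (_hd : zpowers x ⊓ zpowers y = ⊥) (e : ℕ)
    (hfus : ∀ (g : S) (i : ℕ), g * x * g⁻¹ = x ^ i → (i : ZMod p) ^ e = 1)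
    (c : S) (hcx : Commute c x) (j : ℕ) (hc : c * y * c⁻¹ = y ^ j) :
    (p - 1) / e * orderOf (j : ZMod p) + blockRank p (principalBlock M S) ≤ kB M S := by
  have hxP : x ∈ (P : Subgroup S) := by
    rw [hP]
    exact subset_closure (Or.inl rfl)
  obtain ⟨k, hk⟩ := IsPGroup.iff_orderOf.1 P.2 ⟨x, hxP⟩
  rw [Subgroup.orderOf_mk] at hk
  have hk0 : k ≠ 0 := by
    rintro rfl
    rw [pow_zero, orderOf_eq_one_iff] at hk
    exact hx hk
  exact kB_of_one hM x k hk hk0 e _ hfus (rank_of_rank_two hM P x y hxy hP hy c hcx j hc)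

/-- D7: Sylow subgroups of rank 2: `x`, `y` generate a Sylow subgroup; `c` centralizes `x` and acts on `y` -/
theorem kB_of_rank_two {S : Type u} [Group S] [Finite S] (hM : IsPModular p M) (P : Sylow p S) (x y : S)
    (hxy : Commute x y) (hP : (P : Subgroup S) = closure {x, y}) (hx : x ≠ 1) (hy : y ∉ zpowers x)
    (hd : zpowers x ⊓ zpowers y = ⊥) (e : ℕ)
    (hfus : ∀ (g : S) (i : ℕ), g * x * g⁻¹ = x ^ i → (i : ZMod p) ^ e = 1)
    (c : S) (hcx : Commute c x) (j : ℕ) (hc : c * y * c⁻¹ = y ^ j) :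
    (p - 1) / e * orderOf (j : ZMod p) + 1 ≤ kB M S :=
  (Nat.add_le_add_left (H296.KB.one_le_rank hM) _).trans
    (kB_of_rank_two' hM P x y hxy hP hx hy hd e hfus c hcx j hc)

/-- D3': simple groups -/
theorem two_le_rank_simple {S : Type u} [Group S] [Finite S] [IsSimpleGroup S] (hM : IsPModular p M)
    (hna : ¬ IsMulCommutative S) (hpS : p ∣ Nat.card S) : 2 ≤ blockRank p (principalBlock M S) := by
  by_contra hlt
  have h1 := H296.KB.one_le_rank (S := S) hM
  have : Fintype S := Fintype.ofFinite S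
  obtain ⟨P, N, hN, hNP⟩ := S4646.compl_of_rank_one (G := S) hM (by omega)
  rcases hN.eq_bot_or_eq_top with h2 | h2
  · rw [h2] at hNP
    have h3 : (P : Subgroup S) = ⊤ := by
      have := hNP.sup_eq_top
      rwa [bot_sup_eq] at this
    have h4 : IsPGroup p S := IsPGroup.of_surjective P.2 (P : Subgroup S).subtype (by
      intro g
      exact ⟨⟨g, by rw [h3]; exact mem_top g⟩, rfl⟩)
    have h5 : Nontrivial (center S) := h4.center_nontrivial
    rcases (inferInstance : (center S).Normal).eq_bot_or_eq_top with h6 | h6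
    · rw [h6] at h5
      exact not_nontrivial _ h5
    · apply hna
      refine ⟨⟨fun a b => ?_⟩⟩
      have h7 : b ∈ center S := by rw [h6]; exact mem_top b
      exact mem_center_iff.1 h7 a
  · rw [h2] at hNP
    have h3 : (P : Subgroup S) = ⊥ := by
      have := hNP.disjoint
      rwa [top_disjoint] at this
    exact P.not_dvd_index (by rw [h3, index_bot]; exact hpS)

end Cfsg.Agent.H832.KB
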