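import Cfsg.Agent.H832.KB.Powers
import Cfsg.Agent.H296.KB.Rank

/-!
# S4822, D8': lower bounds for `k(B₀(S))` from the powers of `p`-elements

* `kB_of_family`: finitely many families of pairwise non-conjugate `p`-elements;
* `kB_of_one`, `kB_of_two` (D8'), `kB_of_one_add`.
-/

set_option autoImplicit false

open Cfsg Subgroup Cfsg.Agent.H508.KB

namespace Cfsg.Agent.H832.KB

universe u

variable {p : ℕ} [hp : Fact p.Prime] {M : Ideal AlgInt}

/-- the general form: families `Y i` of elements with `b i ≤ l(B₀(C(y)))`, pairwise not conjugate -/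
theorem kB_of_family {S : Type u} [Group S] [Finite S] (hM : IsPModular p M) {ι : Type*} (s : Finset ι)
    (Y : ι → Finset S) (b : ι → ℕ) (hY : ∀ i ∈ s, ∀ y ∈ Y i, ∃ k, orderOf y = p ^ k)
    (hb : ∀ i ∈ s, ∀ y ∈ Y i, b i ≤ blockRank p (principalBlock M ↥(centralizer ({y} : Set S))))
    (hcl : ∀ i ∈ s, ∀ j ∈ s, ∀ y ∈ Y i, ∀ z ∈ Y j, IsConj y z → i = j ∧ y = z) (h1 : ∀ i ∈ s, (1 : S) ∉ Y i) :
    ∑ i ∈ s, (Y i).card * b i + blockRank p (principalBlock M S) ≤ kB M S := by
  classical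
  have hdisj : (s : Set ι).PairwiseDisjoint Y := by
    intro i hi j hj hij
    rw [Function.onFun, Finset.disjoint_left]
    intro y hyi hyj
    exact hij (hcl i hi j hj y hyi y hyj (IsConj.refl y)).1
  have h1' : (1 : S) ∉ s.biUnion Y := by
    intro h
    obtain ⟨i, hi, h2⟩ := Finset.mem_biUnion.1 h
    exact h1 i hi h2
  have key := H296.KB.sum_le_kB (S := S) hM (insert 1 (s.biUnion Y)) (by
    intro x hx
    rcases Finset.mem_insert.1 hx with rfl | hx
    · exact ⟨0, by rw [orderOf_one, pow_zero]⟩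
    · obtain ⟨i, hi, h2⟩ := Finset.mem_biUnion.1 hx
      exact hY i hi x h2) (by
    intro x hx y hy hxy
    rcases Finset.mem_insert.1 hx with rfl | hx <;> rcases Finset.mem_insert.1 hy with rfl | hy
    · rfl
    · exact (isConj_one_right.1 hxy).symm
    · exact isConj_one_left.1 hxy
    · obtain ⟨i, hi, h2⟩ := Finset.mem_biUnion.1 hx
      obtain ⟨j, hj, h3⟩ := Finset.mem_biUnion.1 hy
      exact (hcl i hi j hj x h2 y h3 hxy).2)
  rw [Finset.sum_insert h1', Finset.sum_biUnion hdisj] at key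
  have h2 : blockRank p (principalBlock M S) ≤
      blockRank p (principalBlock M ↥(centralizer ({(1 : S)} : Set S))) := by
    apply H296.KB.rank_quot_le hM (centralizer ({(1 : S)} : Set S)).subtype
    intro g
    exact ⟨⟨g, by rw [mem_centralizer_singleton_iff, mul_one, one_mul]⟩, rfl⟩
  have h3 : ∑ i ∈ s, (Y i).card * b i ≤
      ∑ i ∈ s, ∑ y ∈ Y i, blockRank p (principalBlock M ↥(centralizer ({y} : Set S))) := by
    apply Finset.sum_le_sum
    intro i hi
    rw [← smul_eq_mul, ← Finset.sum_const]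
    exact Finset.sum_le_sum (hb i hi)
  omega

/-- the powers of one element, with all the information -/
theorem exists_set {S : Type u} [Group S] [Finite S] (x : S) (k : ℕ) (hx : orderOf x = p ^ k) (hk : k ≠ 0) (e b : ℕ)
    (hfus : ∀ (g : S) (i : ℕ), g * x * g⁻¹ = x ^ i → (i : ZMod p) ^ e = 1)
    (hb : b ≤ blockRank p (principalBlock M ↥(centralizer ({x} : Set S)))) :
    ∃ Y : Finset S, (p - 1) / e ≤ Y.card ∧ (∀ y ∈ Y, ∃ i : ℕ, ¬ p ∣ i ∧ y = x ^ i) ∧
      (∀ y ∈ Y, ∀ z ∈ Y, IsConj y z → y = z) ∧ (∀ y ∈ Y, orderOf y = p ^ k) ∧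
      (∀ y ∈ Y, b ≤ blockRank p (principalBlock M ↥(centralizer ({y} : Set S)))) ∧ (1 : S) ∉ Y := by
  classical
  obtain ⟨Y, h1, h2, h3⟩ := exists_powers hx hk e hfus
  have hord : ∀ y ∈ Y, orderOf y = p ^ k := by
    intro y hy
    obtain ⟨i, hi, rfl⟩ := h2 y hy
    have hcop : (orderOf x).Coprime i := by
      rw [hx]
      exact Nat.Coprime.pow_left k ((Nat.Prime.coprime_iff_not_dvd hp.out).2 hi)
    rw [hcop.orderOf_pow, hx]
  refine ⟨Y, h1, h2, h3, hord, ?_, ?_⟩
  · intro y hy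
    obtain ⟨i, hi, rfl⟩ := h2 y hy
    rw [centralizer_pow_eq hx hi]
    exact hb
  · intro h
    have h4 := hord 1 h
    rw [orderOf_one] at h4
    exact (Nat.one_lt_pow hk hp.out.one_lt).ne h4

/-- one element: `(p - 1) / e * l(B₀(C(x))) + l(B₀(S)) ≤ k(B₀(S))` -/
theorem kB_of_one {S : Type u} [Group S] [Finite S] (hM : IsPModular p M) (x : S) (k : ℕ)
    (hx : orderOf x = p ^ k) (hk : k ≠ 0) (e b : ℕ)
    (hfus : ∀ (g : S) (i : ℕ), g * x * g⁻¹ = x ^ i → (i : ZMod p) ^ e = 1)
    (hb : b ≤ blockRank p (principalBlock M ↥(centralizer ({x} : Set S)))) :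
    (p - 1) / e * b + blockRank p (principalBlock M S) ≤ kB M S := by
  obtain ⟨Y, h1, h2, h3, h4, h5, h6⟩ := exists_set (M := M) x k hx hk e b hfus hb
  have key := kB_of_family hM (Finset.univ : Finset Unit) (fun _ => Y) (fun _ => b)
    (fun _ _ y hy => ⟨k, h4 y hy⟩) (fun _ _ => h5) (fun _ _ _ _ y hy z hz h => ⟨rfl, h3 y hy z hz h⟩)
    (fun _ _ => h6)
  rw [Finset.univ_unique, Finset.sum_singleton] at key
  exact (Nat.add_le_add_right (Nat.mul_le_mul_right _ h1) _).trans key

/-- D8': two elements whose powers are not conjugate -/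
theorem kB_of_two {S : Type u} [Group S] [Finite S] (hM : IsPModular p M) (x x' : S) (k k' : ℕ)
    (hx : orderOf x = p ^ k) (hx' : orderOf x' = p ^ k') (hk : k ≠ 0) (hk' : k' ≠ 0) (e e' b b' : ℕ)
    (hfus : ∀ (g : S) (i : ℕ), g * x * g⁻¹ = x ^ i → (i : ZMod p) ^ e = 1)
    (hfus' : ∀ (g : S) (i : ℕ), g * x' * g⁻¹ = x' ^ i → (i : ZMod p) ^ e' = 1)
    (hne : ∀ (g : S) (i : ℕ), g * x * g⁻¹ ≠ x' ^ i)
    (hb : b ≤ blockRank p (principalBlock M ↥(centralizer ({x} : Set S))))
    (hb' : b' ≤ blockRank p (principalBlock M ↥(centralizer ({x'} : Set S)))) :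
    (p - 1) / e * b + (p - 1) / e' * b' + blockRank p (principalBlock M S) ≤ kB M S := by
  obtain ⟨Y, h1, h2, h3, h4, h5, h6⟩ := exists_set (M := M) x k hx hk e b hfus hb
  obtain ⟨Y', h1', h2', h3', h4', h5', h6'⟩ := exists_set (M := M) x' k' hx' hk' e' b' hfus' hb'
  have hcross : ∀ y ∈ Y, ∀ z ∈ Y', ¬ IsConj y z := by
    intro y hy z hz h
    obtain ⟨i, hi, rfl⟩ := h2 y hy
    obtain ⟨j, hj, rfl⟩ := h2' z hz
    obtain ⟨g, hg⟩ := isConj_iff.1 h
    obtain ⟨m, -, hm⟩ := conj_of_conj_pow hx hi hg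
    exact hne g _ hm
  have key := kB_of_family hM (Finset.univ : Finset Bool) (fun t => if t then Y else Y')
    (fun t => if t then b else b') (by
      rintro (_ | _) - y hy
      · exact ⟨k', h4' y hy⟩
      · exact ⟨k, h4 y hy⟩) (by
      rintro (_ | _) - y hy
      · exact h5' y hy
      · exact h5 y hy) (by
      rintro (_ | _) - (_ | _) - y hy z hz h
      · exact ⟨rfl, h3' y hy z hz h⟩
      · exact absurd h.symm (hcross z hz y hy)
      · exact absurd h (hcross y hy z hz)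
      · exact ⟨rfl, h3 y hy z hz h⟩) (by
      rintro (_ | _) -
      · exact h6'
      · exact h6)
  rw [Fintype.sum_bool] at key
  have e1 : (p - 1) / e * b ≤ Y.card * b := Nat.mul_le_mul_right _ h1
  have e2 : (p - 1) / e' * b' ≤ Y'.card * b' := Nat.mul_le_mul_right _ h1'
  simp only [if_true, Bool.false_eq_true, if_false] at key
  omega

/-- one element and one more class of `p`-elements -/
theorem kB_of_one_add {S : Type u} [Group S] [Finite S] (hM : IsPModular p M) (x : S) (k : ℕ)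
    (hx : orderOf x = p ^ k) (hk : k ≠ 0) (e b : ℕ)
    (hfus : ∀ (g : S) (i : ℕ), g * x * g⁻¹ = x ^ i → (i : ZMod p) ^ e = 1)
    (hb : b ≤ blockRank p (principalBlock M ↥(centralizer ({x} : Set S))))
    (z : S) (hz : ∃ k, orderOf z = p ^ k) (hz1 : z ≠ 1) (hzx : ∀ i : ℕ, ¬ IsConj z (x ^ i)) :
    (p - 1) / e * b + 1 + blockRank p (principalBlock M S) ≤ kB M S := by
  obtain ⟨Y, h1, h2, h3, h4, h5, h6⟩ := exists_set (M := M) x k hx hk e b hfus hb
  have hcross : ∀ y ∈ Y, ¬ IsConj z y := by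
    intro y hy
    obtain ⟨i, -, rfl⟩ := h2 y hy
    exact hzx i
  have key := kB_of_family hM (Finset.univ : Finset Bool) (fun t => if t then Y else {z})
    (fun t => if t then b else 1) (by
      rintro (_ | _) - y hy
      · obtain rfl := Finset.mem_singleton.1 hy
        exact hz
      · exact ⟨k, h4 y hy⟩) (by
      rintro (_ | _) - y hy
      · exact H296.KB.one_le_rank hM
      · exact h5 y hy) (by
      rintro (_ | _) - (_ | _) - y hy w hw h
      · exact ⟨rfl, (Finset.mem_singleton.1 hy).trans (Finset.mem_singleton.1 hw).symm⟩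
      · obtain rfl := Finset.mem_singleton.1 hy
        exact absurd h (hcross w hw)
      · obtain rfl := Finset.mem_singleton.1 hw
        exact absurd h.symm (hcross y hy)
      · exact ⟨rfl, h3 y hy w hw h⟩) (by
      rintro (_ | _) -
      · intro h
        exact hz1 (Finset.mem_singleton.1 h).symm
      · exact h6)
  rw [Fintype.sum_bool] at key
  have e1 : (p - 1) / e * b ≤ Y.card * b := Nat.mul_le_mul_right _ h1
  simp only [if_true, Bool.false_eq_true, if_false, Finset.card_singleton] at key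
  omega

end Cfsg.Agent.H832.KB
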