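import Cfsg.Agent.H832.KB.Family
import Cfsg.Agent.H973.KB.Cyc

/-!
# S4822, D6: lower bounds for `k(B₀(S))` from one element of order `p`

* `kB_of_elt` (D6), `kB_of_elt'` (D6'), `kB_of_elt_add`.
-/

set_option autoImplicit false

open Cfsg Subgroup Cfsg.Agent.H508.KB

namespace Cfsg.Agent.H832.KB

universe u

variable {p : ℕ} [hp : Fact p.Prime] {M : Ideal AlgInt}

/-- the lower bound for `l(B₀(C(x)))` from a quotient with cyclic Sylow subgroups -/
theorem rank_of_quot {C : Type u} [Group C] [Finite C] (hM : IsPModular p M)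
    {Q : Type u} [Group Q] [Finite Q] (φ : C →* Q) (hφ : Function.Surjective φ)
    (P : Sylow p Q) (hP : IsCyclic (P : Subgroup Q)) (y c : Q) (hy : y ≠ 1) (k : ℕ) (hyk : orderOf y = p ^ k) (j : ℕ)
    (hc : c * y * c⁻¹ = y ^ j) : orderOf (j : ZMod p) ≤ blockRank p (principalBlock M C) :=
  (H973.KB.rank_cyclic hM P hP y c hy k hyk j hc).trans (H296.KB.rank_quot_le hM φ hφ)

/-- D6' -/
theorem kB_of_elt' {S : Type u} [Group S] [Finite S] (hM : IsPModular p M) (x : S) (hx : orderOf x = p) (e : ℕ)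
    (hfus : ∀ (g : S) (i : ℕ), g * x * g⁻¹ = x ^ i → (i : ZMod p) ^ e = 1)
    {Q : Type u} [Group Q] [Finite Q] (φ : ↥(centralizer ({x} : Set S)) →* Q) (hφ : Function.Surjective φ)
    (P : Sylow p Q) (hP : IsCyclic (P : Subgroup Q)) (y c : Q) (hy : y ≠ 1) (k : ℕ) (hyk : orderOf y = p ^ k) (j : ℕ)
    (hc : c * y * c⁻¹ = y ^ j) :
    (p - 1) / e * orderOf (j : ZMod p) + blockRank p (principalBlock M S) ≤ kB M S :=
  kB_of_one hM x 1 (by rw [hx, pow_one]) one_ne_zero e _ hfus (rank_of_quot hM φ hφ P hP y c hy k hyk j hc)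

/-- D6 -/
theorem kB_of_elt {S : Type u} [Group S] [Finite S] (hM : IsPModular p M) (x : S) (hx : orderOf x = p) (e : ℕ)
    (hfus : ∀ (g : S) (i : ℕ), g * x * g⁻¹ = x ^ i → (i : ZMod p) ^ e = 1)
    {Q : Type u} [Group Q] [Finite Q] (φ : ↥(centralizer ({x} : Set S)) →* Q) (hφ : Function.Surjective φ)
    (P : Sylow p Q) (hP : IsCyclic (P : Subgroup Q)) (y c : Q) (hy : y ≠ 1) (k : ℕ) (hyk : orderOf y = p ^ k) (j : ℕ)
    (hc : c * y * c⁻¹ = y ^ j) : (p - 1) / e * orderOf (j : ZMod p) + 1 ≤ kB M S :=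
  (Nat.add_le_add_left (H296.KB.one_le_rank hM) _).trans (kB_of_elt' hM x hx e hfus φ hφ P hP y c hy k hyk j hc)

/-- D6 with one more class of `p`-elements -/
theorem kB_of_elt_add {S : Type u} [Group S] [Finite S] (hM : IsPModular p M) (x : S) (hx : orderOf x = p) (e : ℕ)
    (hfus : ∀ (g : S) (i : ℕ), g * x * g⁻¹ = x ^ i → (i : ZMod p) ^ e = 1)
    {Q : Type u} [Group Q] [Finite Q] (φ : ↥(centralizer ({x} : Set S)) →* Q) (hφ : Function.Surjective φ)
    (P : Sylow p Q) (hP : IsCyclic (P : Subgroup Q)) (y c : Q) (hy : y ≠ 1) (k : ℕ) (hyk : orderOf y = p ^ k) (j : ℕ)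
    (hc : c * y * c⁻¹ = y ^ j) (z : S) (hz : ∃ k, orderOf z = p ^ k) (hz1 : z ≠ 1)
    (hzx : ∀ i : ℕ, ¬ IsConj z (x ^ i)) :
    (p - 1) / e * orderOf (j : ZMod p) + 2 ≤ kB M S := by
  have h := kB_of_one_add hM x 1 (by rw [hx, pow_one]) one_ne_zero e _ hfus
    (rank_of_quot hM φ hφ P hP y c hy k hyk j hc) z hz hz1 hzx
  have h1 := H296.KB.one_le_rank (S := S) hM
  omega

end Cfsg.Agent.H832.KB
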