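import Mathlib

/-!
# S4822, D6: pairwise non-conjugate powers of a `p`-element

`exists_powers`: if `g x g⁻¹ = x ^ i` implies `i ^ e = 1` in `ZMod p`, then at least `(p - 1) / e` powers of `x` with
the same centralizer are pairwise not conjugate.
-/

set_option autoImplicit false

open Subgroup

namespace Cfsg.Agent.H832.KB

variable {p : ℕ} [hp : Fact p.Prime] {S : Type*} [Group S]

/-- inverse of a power prime to `p` -/
theorem exists_inv_pow {x : S} {k : ℕ} (hx : orderOf x = p ^ k) {i : ℕ} (hi : ¬ p ∣ i) :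
    ∃ m : ℕ, i * m ≡ 1 [MOD p ^ k] ∧ (x ^ i) ^ m = x := by
  have hcop : i.Coprime (p ^ k) :=
    Nat.Coprime.pow_right k (Nat.Coprime.symm ((Nat.Prime.coprime_iff_not_dvd hp.out).2 hi))
  obtain ⟨m, -, hm⟩ : ∃ m : ℕ, True ∧ i * m ≡ 1 [MOD p ^ k] := by
    rcases Nat.eq_zero_or_pos k with rfl | hk
    · exact ⟨0, trivial, by rw [pow_zero]; exact Nat.modEq_one⟩
    · obtain ⟨m, hm⟩ := Nat.exists_mul_mod_eq_one_of_coprime hcop (Nat.one_lt_pow hk.ne' hp.out.one_lt)
      refine ⟨m, trivial, ?_⟩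
      rw [Nat.ModEq, hm.2, Nat.mod_eq_of_lt (Nat.one_lt_pow hk.ne' hp.out.one_lt)]
  refine ⟨m, hm, ?_⟩
  rw [← pow_mul]
  conv_rhs => rw [← pow_one x]
  rw [pow_eq_pow_iff_modEq, hx]
  exact hm

theorem centralizer_pow_eq {x : S} {k : ℕ} (hx : orderOf x = p ^ k) {i : ℕ} (hi : ¬ p ∣ i) :
    centralizer ({x ^ i} : Set S) = centralizer ({x} : Set S) := by
  obtain ⟨m, -, hm⟩ := exists_inv_pow hx hi
  ext g
  rw [mem_centralizer_singleton_iff, mem_centralizer_singleton_iff]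
  constructor
  · intro h
    have h1 : Commute g (x ^ i) := h
    have h2 := h1.pow_right m
    rw [hm] at h2
    exact h2
  · intro h
    have h1 : Commute g x := h
    exact h1.pow_right i

/-- powers prime to `p` of two elements -/
theorem conj_of_conj_pow {x x' : S} {k : ℕ} (hx : orderOf x = p ^ k) {i j : ℕ} (hi : ¬ p ∣ i) {g : S}
    (h : g * x ^ i * g⁻¹ = x' ^ j) : ∃ m : ℕ, i * m ≡ 1 [MOD p ^ k] ∧ g * x * g⁻¹ = x' ^ (j * m) := by
  obtain ⟨m, hm1, hm⟩ := exists_inv_pow hx hi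
  refine ⟨m, hm1, ?_⟩
  rw [pow_mul, ← h, conj_pow, hm]

/-- at least `(p - 1) / e` powers of `x` are pairwise not conjugate -/
theorem exists_powers [DecidableEq S] {x : S} {k : ℕ} (hx : orderOf x = p ^ k) (hk : k ≠ 0) (e : ℕ)
    (hfus : ∀ (g : S) (i : ℕ), g * x * g⁻¹ = x ^ i → (i : ZMod p) ^ e = 1) :
    ∃ Y : Finset S, (p - 1) / e ≤ Y.card ∧ (∀ y ∈ Y, ∃ i : ℕ, ¬ p ∣ i ∧ y = x ^ i) ∧
      (∀ y ∈ Y, ∀ z ∈ Y, IsConj y z → y = z) := by
  have hp0 : p.Prime := hp.out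
  rcases Nat.eq_zero_or_pos e with rfl | he
  · exact ⟨∅, by simp, by simp, by simp⟩
  classical
  let H : Subgroup (ZMod p)ˣ := (powMonoidHom e : (ZMod p)ˣ →* (ZMod p)ˣ).ker
  have hHcard : Nat.card H ≤ e := by
    have h1 : ∀ u : H, (u : (ZMod p)ˣ) ∈ rootsOfUnity e (ZMod p) := fun u => u.2
    have h2 : Nat.card H ≤ Nat.card (rootsOfUnity e (ZMod p)) :=
      Nat.card_le_card_of_injective (fun u : H => (⟨u.1, h1 u⟩ : rootsOfUnity e (ZMod p))) (by
        intro u v huv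
        exact Subtype.ext (congrArg (fun z : rootsOfUnity e (ZMod p) => (z.1 : (ZMod p)ˣ)) huv))
    have : NeZero e := ⟨he.ne'⟩
    have h3 := card_rootsOfUnity (R := ZMod p) e
    exact h2.trans h3
  have hidx : (p - 1) / e ≤ Nat.card ((ZMod p)ˣ ⧸ H) := by
    have h1 : Nat.card (ZMod p)ˣ = p - 1 := by
      rw [Nat.card_eq_fintype_card, ZMod.card_units]
    have h2 := Subgroup.card_eq_card_quotient_mul_card_subgroup H
    rw [h1] at h2
    rw [h2]
    apply Nat.div_le_of_le_mul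
    rw [mul_comm e]
    exact Nat.mul_le_mul_left _ hHcard
  let f : (ZMod p)ˣ ⧸ H → S := fun q => x ^ ((q.out : (ZMod p)ˣ) : ZMod p).val
  have hval : ∀ u : (ZMod p)ˣ, ¬ p ∣ (u : ZMod p).val := by
    intro u h
    have h1 : (u : ZMod p) = 0 := by
      rw [← ZMod.natCast_zmod_val (u : ZMod p)]
      exact (ZMod.natCast_eq_zero_iff _ _).2 h
    exact u.ne_zero h1
  have hconj : ∀ q q' : (ZMod p)ˣ ⧸ H, IsConj (f q) (f q') → q = q' := by
    intro q q' h
    obtain ⟨g, hg⟩ := isConj_iff.1 h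
    obtain ⟨m, hm, hm'⟩ := conj_of_conj_pow hx (hval _) hg
    have h1 := hfus g _ hm'
    have hm2 : ((q.out : (ZMod p)ˣ) : ZMod p) * (m : ZMod p) = 1 := by
      have h2 : ((q.out : (ZMod p)ˣ) : ZMod p).val * m ≡ 1 [MOD p] := hm.of_dvd (dvd_pow_self p hk)
      have h3 := (ZMod.natCast_eq_natCast_iff _ _ p).2 h2
      push_cast at h3
      rw [ZMod.natCast_zmod_val] at h3
      exact h3
    push_cast at h1
    rw [ZMod.natCast_zmod_val] at h1
    have h4 : (m : ZMod p) = (((q.out : (ZMod p)ˣ)⁻¹ : (ZMod p)ˣ) : ZMod p) := by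
      rw [Units.val_inv_eq_inv_val]
      exact eq_inv_of_mul_eq_one_right hm2
    have h5 : (q.out)⁻¹ * q'.out ∈ H := by
      show ((q.out)⁻¹ * q'.out) ^ e = 1
      apply Units.ext
      rw [Units.val_pow_eq_pow_val, Units.val_mul, Units.val_one, ← h4, mul_comm]
      exact h1
    have h6 := QuotientGroup.eq.2 h5
    rwa [QuotientGroup.out_eq', QuotientGroup.out_eq'] at h6
  have hinj : Function.Injective f := fun q q' h => hconj q q' (h ▸ IsConj.refl _)
  have : Fintype ((ZMod p)ˣ ⧸ H) := Fintype.ofFinite _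
  refine ⟨Finset.univ.image f, ?_, ?_, ?_⟩
  · rw [Finset.card_image_of_injective _ hinj, Finset.card_univ, ← Nat.card_eq_fintype_card]
    exact hidx
  · intro y hy
    obtain ⟨q, -, rfl⟩ := Finset.mem_image.1 hy
    exact ⟨_, hval _, rfl⟩
  · intro y hy z hz h
    obtain ⟨q, -, rfl⟩ := Finset.mem_image.1 hy
    obtain ⟨q', -, rfl⟩ := Finset.mem_image.1 hz
    rw [hconj q q' h]

end Cfsg.Agent.H832.KB
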